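import Cfsg.Agent.H458.Rs.O6pC
import Cfsg.Agent.S5782

/-!
# S3691, box O6p (helper458)

`boxO6p` : subgroups of `O₆⁺(2 ^ f)` with `r₄` (with box Sp4 as hypothesis)
-/

set_option autoImplicit false

namespace Cfsg.Agent.H458.Rs

open Cfsg Cfsg.Geo
open Cfsg.Agent.H659.Rs (BoxSp4 BoxO6p)

theorem res_none {F : Type} [Field F] [Fintype F] {f : ℕ} (hf : 4 ≤ f) (hF : Fintype.card F = 2 ^ f) :
    LinResNone F := by
  intro H hH hS
  obtain ⟨-, p, -, hp, hFp, -⟩ := Cfsg.Agent.S5782.result H hH hS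
  rw [← hFp, hF] at hp
  exact Nat.Prime.not_prime_pow (by omega) hp

/-- **box O6p** -/
theorem boxO6p (h4 : BoxSp4) : BoxO6p := boxO6p_of_res h4 res_none

end Cfsg.Agent.H458.Rs
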