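import Cfsg.Agent.S5781
import Cfsg.Agent.H304.PpdClass
import Cfsg.Agent.H884.ElKill
import Cfsg.Agent.H953.Sympl
import Cfsg.Agent.H931.SpProper
import Cfsg.Agent.H96.Rg.SixField
import Cfsg.Agent.H96.U4.Num
import Cfsg.Agent.H905.SLProper
import Cfsg.Agent.H912.Core4

/-!
# S3691, box O6p: subgroups of `SL_4(2 ^ f)` with `r₄` (helper458)

(parts of this file follow helper238, H238/Om7/{Sl4,Core}.lean)
-/

set_option autoImplicit false

namespace Cfsg.Agent.H458.Rs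

open Module Matrix Cfsg Cfsg.Geo Cfsg.Agent.H728.DghpNum Cfsg.Agent.H304.Ppd
open Cfsg.Agent.H884.El (PP decomp_le ext_cases kill_subfield)
open Cfsg.Agent.H659.Rs (Pm v2 BoxSp4 IsL)
open Cfsg.Agent.H96.U4 (fact_le fact_two_pow_mul odd_sub odd_sub' index_le_two card_spGL_two card_psl_dvd)
open scoped MatrixGroups

/-! ### prime powers -/

section Grp

variable {G : Type*} [Group G] [Finite G] {H K : Subgroup G} {l : ℕ}

/-- `l`-subgroups of `H` lie in `K` -/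
theorem pow_dvd_inf (hl : l.Prime) (h : ∀ x ∈ H, ∀ k : ℕ, x ^ l ^ k = 1 → x ∈ K) {n : ℕ}
    (hn : l ^ n ∣ Nat.card H) : l ^ n ∣ Nat.card ↥(H ⊓ K) := by
  have := Fact.mk hl
  obtain ⟨P, hP⟩ := Sylow.exists_subgroup_card_pow_prime (G := H) l hn
  have h1 : P.map H.subtype ≤ H ⊓ K := by
    rintro _ ⟨x, hx, rfl⟩
    refine ⟨x.2, h x x.2 n ?_⟩
    have h2 : (⟨x, hx⟩ : P) ^ l ^ n = 1 := by
      rw [← hP]
      exact pow_card_eq_one'
    have h3 : x ^ l ^ n = 1 := congrArg Subtype.val h2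
    have h4 := congrArg Subtype.val h3
    exact h4
  rw [← hP, ← Subgroup.card_map_of_injective H.subtype_injective]
  exact Subgroup.card_dvd_of_le h1

theorem factorization_inf (hl : l.Prime) (h : ∀ x ∈ H, ∀ k : ℕ, x ^ l ^ k = 1 → x ∈ K) :
    (Nat.card H).factorization l = (Nat.card ↥(H ⊓ K)).factorization l := by
  apply le_antisymm
  · rw [← hl.pow_dvd_iff_le_factorization Nat.card_pos.ne']
    exact pow_dvd_inf hl h (Nat.ordProj_dvd _ _)
  · exact (Nat.factorization_le_iff_dvd Nat.card_pos.ne' Nat.card_pos.ne').2 (Subgroup.card_dvd_of_le inf_le_left) l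

end Grp

/-! ### numbers -/

section Num

variable {f r k : ℕ}

theorem ppd_of_pp {q e : ℕ} (h : PP q e r) (he : 1 ≤ e) : Ppd q e r := ⟨h.prime, h.ord, h.not_dvd he⟩

theorem pp_of_pm (h : Pm (k * f) r) : PP 2 (f * k) r := ⟨h.prime, by rw [mul_comm]; exact h.ord⟩

theorem pp_card {F : Type*} [Field F] [Finite F] (hf : 1 ≤ f) (hF : Nat.card F = 2 ^ f) (h : PP 2 (f * k) r) :
    PP (Nat.card F) k r := by
  rw [hF]
  exact h.of_pow hf

theorem ndvd_pred (hf : 1 ≤ f) : ¬ 2 ∣ 2 ^ f - 1 := by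
  intro h
  have h1 := odd_sub' hf
  rw [Nat.odd_iff] at h1
  omega

end Num

/-! ### similarities -/

section Sim

variable {ι : Type} [Fintype ι] [DecidableEq ι] {F : Type*} [Field F]

/-- isometries of a two-argument form -/
def isoF (f : (ι → F) → (ι → F) → F) : Subgroup (GL ι F) where
  carrier := {g | ∀ u v, f ((g : Matrix ι ι F) *ᵥ u) ((g : Matrix ι ι F) *ᵥ v) = f u v}
  mul_mem' {a b} ha hb := fun u v => by
    rw [Units.val_mul, ← Matrix.mulVec_mulVec, ← Matrix.mulVec_mulVec, ha, hb]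
  one_mem' := fun u v => by simp
  inv_mem' {a} ha := fun u v => by
    have h := ha (((a⁻¹ : GL ι F) : Matrix ι ι F) *ᵥ u) (((a⁻¹ : GL ι F) : Matrix ι ι F) *ᵥ v)
    rw [Matrix.mulVec_mulVec, Matrix.mulVec_mulVec, ← Units.val_mul, mul_inv_cancel, Units.val_one,
      Matrix.one_mulVec, Matrix.one_mulVec] at h
    exact h.symm

theorem unit_eq_one [Finite F] {l k : ℕ} (hl : l.Prime) (hlF : ¬ l ∣ Nat.card F - 1) {c : Fˣ} (h : c ^ l ^ k = 1) :
    c = 1 := by
  have h5 : orderOf c ∣ l ^ k := orderOf_dvd_of_pow_eq_one h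
  have h6 : orderOf c ∣ Nat.card F - 1 := by
    have := _root_.orderOf_dvd_natCard c
    rwa [Nat.card_units] at this
  obtain ⟨j, -, hj⟩ := (Nat.dvd_prime_pow hl).1 h5
  rcases Nat.eq_zero_or_pos j with h0 | h0
  · rw [h0, pow_zero] at hj
    exact orderOf_eq_one_iff.1 hj
  · exact absurd ((dvd_pow_self l (by omega)).trans (hj ▸ h6)) hlF

theorem sim_pow {f : (ι → F) → (ι → F) → F} {x : GL ι F} {c : Fˣ}
    (h : ∀ u v, f ((x : Matrix ι ι F) *ᵥ u) ((x : Matrix ι ι F) *ᵥ v) = (c : F) * f u v) (k : ℕ) :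
    ∀ u v, f (((x ^ k : GL ι F) : Matrix ι ι F) *ᵥ u) (((x ^ k : GL ι F) : Matrix ι ι F) *ᵥ v) =
      ((c ^ k : Fˣ) : F) * f u v := by
  induction k with
  | zero => intro u v; simp
  | succ k ih =>
    intro u v
    rw [pow_succ', Units.val_mul, ← Matrix.mulVec_mulVec, ← Matrix.mulVec_mulVec, h, ih, pow_succ', Units.val_mul,
      mul_assoc]

theorem mem_isoF_of_sim [Finite F] {f : (ι → F) → (ι → F) → F} (hne : ∃ u v, f u v ≠ 0) {l : ℕ} (hl : l.Prime)
    (hlF : ¬ l ∣ Nat.card F - 1) {x : GL ι F} (hx : x ∈ similarityGroup f) {k : ℕ} (hxk : x ^ l ^ k = 1) :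
    x ∈ isoF f := by
  obtain ⟨c, hc⟩ := hx
  obtain ⟨u, v, huv⟩ := hne
  have h1 := sim_pow hc (l ^ k) u v
  rw [hxk, Units.val_one, Matrix.one_mulVec, Matrix.one_mulVec] at h1
  have h2 : ((c ^ l ^ k : Fˣ) : F) = 1 := by
    have h3 : (((c ^ l ^ k : Fˣ) : F) - 1) * f u v = 0 := by rw [sub_mul, one_mul, ← h1, sub_self]
    exact sub_eq_zero.1 ((mul_eq_zero.1 h3).resolve_right huv)
  have h3 : c = 1 := unit_eq_one hl hlF (Units.ext h2)
  intro a b
  rw [hc, h3, Units.val_one, one_mul]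

end Sim

/-! ### the symplectic group in coordinates -/

section Sp

variable {F : Type} [Field F]

theorem stdForm_eq' (k : ℕ) (u v : Fin k ⊕ Fin k → F) : H953.stdForm k F u v = - sympForm k F u v := by
  unfold H953.stdForm
  rw [ClassicalGeometry.SympBasic.sympForm_eq_sum, ← Finset.sum_neg_distrib]
  exact Finset.sum_congr rfl fun i _ => by ring

theorem reindex_mulVec' {k m : ℕ} (ε : Fin k ⊕ Fin k ≃ Fin m) (A : GL (Fin k ⊕ Fin k) F) (u : Fin m → F) :
    (((glReindex ε A : GL (Fin m) F) : Matrix (Fin m) (Fin m) F) *ᵥ u) ∘ ε =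
      (A : Matrix (Fin k ⊕ Fin k) (Fin k ⊕ Fin k) F) *ᵥ (u ∘ ε) := by
  funext i
  change ∑ j : Fin m, (A : Matrix (Fin k ⊕ Fin k) (Fin k ⊕ Fin k) F) (ε.symm (ε i)) (ε.symm j) * u j =
    ∑ j : Fin k ⊕ Fin k, (A : Matrix (Fin k ⊕ Fin k) (Fin k ⊕ Fin k) F) i j * u (ε j)
  rw [← Equiv.sum_comp ε]
  simp

theorem exists_sp {f : (Fin 4 → F) → (Fin 4 → F) → F} (hf : IsSymplecticForm f) :
    ∃ θ : GL (Fin 4) F ≃* GL (Fin 2 ⊕ Fin 2) F, ∀ x, x ∈ isoF f ↔ θ x ∈ spGL 2 F := by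
  obtain ⟨k, ε, S, hS⟩ := H953.exists_std hf
  have hk : k = 2 := by
    have := Fintype.card_congr ε
    simp only [Fintype.card_sum, Fintype.card_fin] at this
    omega
  subst hk
  refine ⟨(MulAut.conj S⁻¹).trans (glReindex (F := F) ε).symm, fun x => ?_⟩
  set A : GL (Fin 2 ⊕ Fin 2) F := ((MulAut.conj S⁻¹).trans (glReindex (F := F) ε).symm) x with hA
  have hrA : glReindex (F := F) ε A = S⁻¹ * x * S := by
    rw [hA, MulEquiv.trans_apply, MulEquiv.apply_symm_apply, MulAut.conj_apply, inv_inv]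
  have key : ∀ u v : Fin 4 → F, sympForm 2 F ((A : Matrix (Fin 2 ⊕ Fin 2) (Fin 2 ⊕ Fin 2) F) *ᵥ (u ∘ ε)) ((A : Matrix (Fin 2 ⊕ Fin 2) (Fin 2 ⊕ Fin 2) F) *ᵥ (v ∘ ε)) =
      - f ((x : Matrix (Fin 4) (Fin 4) F) *ᵥ ((S : Matrix (Fin 4) (Fin 4) F) *ᵥ u)) ((x : Matrix (Fin 4) (Fin 4) F) *ᵥ ((S : Matrix (Fin 4) (Fin 4) F) *ᵥ v)) := by
    intro u v
    rw [← reindex_mulVec', ← reindex_mulVec', hrA, eq_neg_iff_add_eq_zero, ← neg_eq_iff_add_eq_zero, ← stdForm_eq', ← hS,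
      Matrix.mulVec_mulVec, Matrix.mulVec_mulVec, ← Units.val_mul, ← mul_assoc, ← mul_assoc, mul_inv_cancel, one_mul,
      Units.val_mul, ← Matrix.mulVec_mulVec, ← Matrix.mulVec_mulVec]
  have key2 : ∀ u v : Fin 4 → F, sympForm 2 F (u ∘ ε) (v ∘ ε) =
      - f ((S : Matrix (Fin 4) (Fin 4) F) *ᵥ u) ((S : Matrix (Fin 4) (Fin 4) F) *ᵥ v) := by
    intro u v
    rw [hS, stdForm_eq', neg_neg]
  have hsurj : ∀ w : Fin 4 → F, ∃ u, (S : Matrix (Fin 4) (Fin 4) F) *ᵥ u = w := fun w => ⟨((S⁻¹ : GL (Fin 4) F) : Matrix (Fin 4) (Fin 4) F) *ᵥ w, by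
    rw [Matrix.mulVec_mulVec, ← Units.val_mul, mul_inv_cancel, Units.val_one, Matrix.one_mulVec]⟩
  constructor
  · intro h
    rw [H931.mem_spGL_iff]
    intro u v
    have h1 := key (u ∘ ε.symm) (v ∘ ε.symm)
    have h2 := key2 (u ∘ ε.symm) (v ∘ ε.symm)
    have e1 : ∀ u : Fin 2 ⊕ Fin 2 → F, (u ∘ ε.symm) ∘ ε = u := fun u => by funext i; simp
    rw [e1, e1] at h1 h2
    rw [h1, h2, h]
  · intro h u v
    rw [H931.mem_spGL_iff] at h
    obtain ⟨u, rfl⟩ := hsurj u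
    obtain ⟨v, rfl⟩ := hsurj v
    have h1 := key u v
    rw [h, key2] at h1
    exact (neg_injective h1).symm

end Sp

/-! ### the normaliser of a quadratic field, characteristic two -/

section Ext

variable {ι : Type} [Fintype ι] [DecidableEq ι] {F : Type} [Field F] [Fintype F] {f : ℕ}

theorem ext_two [Nonempty ι] (hf : 1 ≤ f) (hF : Nat.card F = 2 ^ f) (hι : Fintype.card ι = 4)
    {K : Subalgebra F (Matrix ι ι F)} (hK : IsFieldSubalgebra 2 K) {M : Subgroup (GL ι F)}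
    (hM : M ≤ subalgebraNormalizer K) : (Nat.card M).factorization 2 ≤ 2 * f + 1 := by
  classical
  have hfin : Finite (GL ι F) := inferInstance
  have hN : H912.NormAlg M K := fun g hg a ha => (hM hg a).mp ha
  let _ : Field K := (H912.isField_of_fieldSub hK).toField
  have hfd : Module.Finite F K := inferInstance
  have hKfin : Finite K := Module.finite_of_finite F
  have hgal : IsGalois F K := inferInstance
  have hc2 : Nat.card (K ≃ₐ[F] K) = 2 := by rw [IsGalois.card_aut_eq_finrank, hK.finrank_eq]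
  -- the centraliser of `K` in `M`
  let L : Subgroup (GL ι F) :=
    { carrier := {g | ∀ x ∈ K, (g : Matrix ι ι F) * x = x * (g : Matrix ι ι F)}
      one_mem' := fun x _ => by rw [Units.val_one, one_mul, mul_one]
      mul_mem' := fun {a b} ha hb x hx => by
        rw [Units.val_mul, mul_assoc, hb x hx, ← mul_assoc, ha x hx, mul_assoc]
      inv_mem' := fun {a} ha x hx => by
        have h1 := ha x hx
        calc ((a⁻¹ : GL ι F) : Matrix ι ι F) * x
            = ((a⁻¹ : GL ι F) : Matrix ι ι F) * (x * (a : Matrix ι ι F)) * ((a⁻¹ : GL ι F) : Matrix ι ι F) := by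
              rw [mul_assoc, mul_assoc, ← Units.val_mul, mul_inv_cancel, Units.val_one, mul_one]
          _ = x * ((a⁻¹ : GL ι F) : Matrix ι ι F) := by
              rw [← h1, ← mul_assoc, ← Units.val_mul, inv_mul_cancel, Units.val_one, one_mul] }
  have hLm : ∀ g : GL ι F, g ∈ L ↔ ∀ x ∈ K, (g : Matrix ι ι F) * x = x * (g : Matrix ι ι F) := fun _ => Iff.rfl
  let σ : M → (K ≃ₐ[F] K) := fun g => H912.conjSub hN g
  have hσ : ∀ (g : M) (x : K), ((σ g x : K) : Matrix ι ι F) =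
      ((g : GL ι F) : Matrix ι ι F) * x * (((g : GL ι F)⁻¹ : GL ι F) : Matrix ι ι F) := fun g x =>
    H912.conjSub_coe hN g x
  have hσL : ∀ g : M, σ g = 1 ↔ (g : GL ι F) ∈ L := by
    intro g
    constructor
    · intro h x hx
      have h1 := hσ g ⟨x, hx⟩
      rw [h] at h1
      have h2 : x = ((g : GL ι F) : Matrix ι ι F) * x * (((g : GL ι F)⁻¹ : GL ι F) : Matrix ι ι F) := h1
      conv_rhs => rw [h2]
      rw [mul_assoc, ← Units.val_mul, inv_mul_cancel, Units.val_one, mul_one]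
    · intro h
      apply AlgEquiv.ext
      intro x
      apply Subtype.ext
      rw [hσ, (hLm _).1 h x x.2, mul_assoc, ← Units.val_mul, mul_inv_cancel, Units.val_one, mul_one]
      rfl
  have huniq : ∀ a b : (K ≃ₐ[F] K), a ≠ 1 → b ≠ 1 → a = b := by
    intro a b ha hb
    by_contra hab
    have hfg : Finite (K ≃ₐ[F] K) := Nat.finite_of_card_ne_zero (by rw [hc2]; norm_num)
    have h3 : Nat.card (Fin 3) ≤ Nat.card (K ≃ₐ[F] K) := by
      refine Nat.card_le_card_of_injective ![1, a, b] ?_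
      intro i j hij
      fin_cases i <;> fin_cases j <;> simp_all
    rw [Nat.card_eq_fintype_card, Fintype.card_fin, hc2] at h3
    omega
  have hidx : (L.subgroupOf M).index ∣ 2 := by
    refine index_le_two ?_
    intro x hx y hy hxL hyL
    have h1 : σ ⟨x, hx⟩ = σ ⟨y, hy⟩ := huniq _ _ (fun h => hxL ((hσL _).1 h)) (fun h => hyL ((hσL _).1 h))
    rw [hLm]
    intro z hz
    have h2 : (x : Matrix ι ι F) * z * ((x⁻¹ : GL ι F) : Matrix ι ι F) =
        (y : Matrix ι ι F) * z * ((y⁻¹ : GL ι F) : Matrix ι ι F) := by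
      have e1 := hσ ⟨x, hx⟩ ⟨z, hz⟩
      have e2 := hσ ⟨y, hy⟩ ⟨z, hz⟩
      rw [h1] at e1
      exact e1.symm.trans e2
    calc ((x⁻¹ * y : GL ι F) : Matrix ι ι F) * z
        = ((x⁻¹ : GL ι F) : Matrix ι ι F) * ((y : Matrix ι ι F) * z * ((y⁻¹ : GL ι F) : Matrix ι ι F)) * (y : Matrix ι ι F) := by
          rw [Units.val_mul]
          simp only [mul_assoc]
          rw [← Units.val_mul y⁻¹ y, inv_mul_cancel, Units.val_one, mul_one]
      _ = ((x⁻¹ : GL ι F) : Matrix ι ι F) * ((x : Matrix ι ι F) * z * ((x⁻¹ : GL ι F) : Matrix ι ι F)) * (y : Matrix ι ι F) := by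
          rw [h2]
      _ = z * ((x⁻¹ * y : GL ι F) : Matrix ι ι F) := by
          rw [Units.val_mul]
          simp only [← mul_assoc]
          rw [← Units.val_mul x⁻¹ x, inv_mul_cancel, Units.val_one, one_mul]
  have h1 : Nat.card (L ⊓ M : Subgroup (GL ι F)) ∣ ∏ i : Fin 2, ((Nat.card F ^ 2) ^ 2 - (Nat.card F ^ 2) ^ (i : ℕ)) := by
    refine Cfsg.Agent.H96.Rg.card_comm_dvd hK (n := 2) (by rw [hι]) (by norm_num) ?_
    intro g hg x hx
    exact (hLm g).1 hg.1 x hx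
  have h2 : Nat.card M ∣ 2 * Nat.card (L ⊓ M : Subgroup (GL ι F)) := by
    have h3 : Nat.card (L ⊓ M : Subgroup (GL ι F)) = Nat.card (L.subgroupOf M) := by
      rw [← Subgroup.subgroupOf_map_subtype, Subgroup.card_map_of_injective (Subgroup.subtype_injective _)]
    rw [h3, ← Subgroup.index_mul_card (L.subgroupOf M)]
    exact Nat.mul_dvd_mul_right hidx _
  have h4 : Nat.card M ∣ 2 ^ (2 * f + 1) * (((2 ^ f) ^ 4 - 1) * ((2 ^ f) ^ 2 - 1)) := by
    refine h2.trans ?_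
    rw [pow_succ, mul_comm (2 ^ (2 * f)) 2, mul_assoc]
    refine Nat.mul_dvd_mul_left _ (h1.trans (dvd_of_eq ?_))
    rw [Fin.prod_univ_two, hF]
    have e1 : ((0 : Fin 2) : ℕ) = 0 := rfl
    have e2 : ((1 : Fin 2) : ℕ) = 1 := rfl
    rw [e1, e2, pow_zero, pow_one]
    have e3 : ((2 ^ f) ^ 2) ^ 2 - (2 ^ f) ^ 2 = (2 ^ f) ^ 2 * ((2 ^ f) ^ 2 - 1) := by
      rw [Nat.mul_sub, mul_one, sq ((2 ^ f) ^ 2)]
    have e4 : ((2 ^ f) ^ 2) ^ 2 = (2 ^ f) ^ 4 := by rw [← pow_mul]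
    have e5 : (2 ^ f) ^ 2 = 2 ^ (2 * f) := by rw [← pow_mul, mul_comm]
    rw [e3, e4]
    rw [e5]
    ring
  exact fact_le h4 ((odd_sub hf (by norm_num)).mul (odd_sub hf (by norm_num)))

end Ext

end Cfsg.Agent.H458.Rs
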