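import Cfsg.Agent.H458.Rs.O6pA

/-!
# S3691, box O6p: subgroups of `SL_4(2 ^ f)` with `r₄`, up to S5782 (helper458)

* `LinResNone` : the content of S5782 for `q = 2 ^ f`
* `core` : the trichotomy for subgroups of `SL_4(q)` with `r₄`
-/

set_option autoImplicit false

namespace Cfsg.Agent.H458.Rs

open Module Matrix Cfsg Cfsg.Geo Cfsg.Agent.H728.DghpNum Cfsg.Agent.H304.Ppd
open Cfsg.Agent.H884.El (PP decomp_le ext_cases kill_subfield)
open Cfsg.Agent.H659.Rs (Pm v2 BoxSp4 IsL)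
open Cfsg.Agent.H96.U4 (fact_le fact_two_pow_mul odd_sub odd_sub' index_le_two card_spGL_two card_psl_dvd)
open scoped MatrixGroups

/-- the content of S5782 for the field `F` -/
def LinResNone (F : Type) [Field F] [Fintype F] : Prop :=
  ∀ H : Subgroup (GL (Fin 4) F), IsMaximalIn (specialLinear (Fin 4) F) H → ¬ InLinearResidualClass H

section

variable {F : Type} [Field F] [Fintype F] {f r s : ℕ}

/-- the `2`-part of a subgroup of `Sp_4(q)` with `r₄` -/
theorem sp_v2 (h4 : BoxSp4) (hf : 4 ≤ f) (hF : Fintype.card F = 2 ^ f) (hr : Pm (4 * f) r)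
    {Y : Subgroup (GL (Fin 2 ⊕ Fin 2) F)} (hY : Y ≤ spGL 2 F) (hrY : r ∣ Nat.card Y) :
    (Nat.card Y).factorization 2 ≤ 2 * f + 1 ∨ (Nat.card Y).factorization 2 = 4 * f := by
  have hf1 : 1 ≤ f := by omega
  rcases h4 hf hF hr Y hY hrY with h | ⟨L, hL, -, h⟩ | h
  · right
    rw [h, card_spGL_two, hF]
    have e1 : (2 ^ f) ^ 4 * (((2 ^ f) ^ 2 - 1) * ((2 ^ f) ^ 4 - 1)) =
      2 ^ (4 * f) * (((2 ^ f) ^ 2 - 1) * ((2 ^ f) ^ 4 - 1)) := by rw [← pow_mul 2 f 4, mul_comm f 4]
    rw [e1]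
    exact fact_two_pow_mul ((odd_sub (k := 2) hf1 (by norm_num)).mul (odd_sub (k := 4) hf1 (by norm_num)))
  · left
    obtain ⟨K, i1, i2, hK, ⟨e⟩⟩ := hL.iso
    have h1 : Nat.card L ∣ (2 ^ f) ^ 2 * ((2 ^ f) ^ 4 - 1) := by
      rw [Nat.card_congr e.toEquiv]
      exact card_psl_dvd (by
        have : 2 ^ 1 ≤ 2 ^ f := Nat.pow_le_pow_right (by norm_num) hf1
        omega) (by rw [hK, hF])
    have h2 : Nat.card Y ∣ 2 * ((2 ^ f) ^ 2 * ((2 ^ f) ^ 4 - 1)) := by
      rw [← Subgroup.index_mul_card (L.subgroupOf Y)]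
      refine Nat.mul_dvd_mul (index_le_two h) (dvd_trans ?_ h1)
      exact Subgroup.card_comap_dvd_of_injective L Y.subtype Subtype.coe_injective
    refine fact_le (b := (2 ^ f) ^ 4 - 1) (h2.trans ?_) (odd_sub hf1 (by norm_num))
    rw [← mul_assoc]
    refine Nat.mul_dvd_mul_right (dvd_of_eq ?_) _
    rw [← pow_mul, mul_comm f 2, pow_succ]
    ring
  · left
    have h1 : Nat.card Y ∣ 2 ^ (2 * f) * (((2 ^ f) ^ 4 - 1) * (2 ^ f - 1)) := by
      refine h.trans ?_
      rw [← pow_mul, mul_comm f 2, mul_assoc]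
      refine Nat.mul_dvd_mul_left _ (Nat.mul_dvd_mul_right ?_ _)
      have : 1 ≤ (2 ^ f) ^ 2 := Nat.one_le_pow _ _ (by positivity)
      refine ⟨(2 ^ f) ^ 2 - 1, ?_⟩
      zify [this, Nat.one_le_pow 4 (2 ^ f) (by positivity)]
      ring
    exact (fact_le h1 ((odd_sub hf1 (by norm_num)).mul (odd_sub' hf1))).trans (by omega)

/-- **subgroups of `SL_4(q)` with `r₄`** -/
theorem core (h4 : BoxSp4) (hf : 4 ≤ f) (hF : Fintype.card F = 2 ^ f) (hRes : LinResNone F) (hr : Pm (4 * f) r)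
    (hs : Pm (3 * f) s) {X : Subgroup (GL (Fin 4) F)} (hX : X ≤ specialLinear (Fin 4) F) (hrX : r ∣ Nat.card X) :
    X = specialLinear (Fin 4) F ∨ (¬ s ∣ Nat.card X ∧ ((Nat.card X).factorization 2 ≤ 2 * f + 1 ∨
      (Nat.card X).factorization 2 = 4 * f)) := by
  classical
  have hf1 : 1 ≤ f := by omega
  have hfin : Finite (GL (Fin 4) F) := inferInstance
  have hNF : Nat.card F = 2 ^ f := by rw [Nat.card_eq_fintype_card]; exact hF
  rcases eq_or_lt_of_le hX with h | hlt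
  · exact Or.inl h
  right
  obtain ⟨M, hM, hXM⟩ := H905.exists_isMaximalIn_of_lt hlt
  have hne : Nonempty (Fin 4) := ⟨0⟩
  have hrp : PP 2 (f * 4) r := pp_of_pm hr
  have hsp : PP 2 (f * 3) s := pp_of_pm hs
  have hr4 : PP (Nat.card F) 4 r := pp_card hf1 hNF hrp
  have hs3 : PP (Nat.card F) 3 s := pp_card hf1 hNF hsp
  have hr4' : Ppd (Fintype.card F) 4 r := by rw [← Nat.card_eq_fintype_card]; exact ppd_of_pp hr4 (by norm_num)
  have hs3' : Ppd (Fintype.card F) 3 s := by rw [← Nat.card_eq_fintype_card]; exact ppd_of_pp hs3 (by norm_num)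
  have hlt4 := hr4.lt (by norm_num)
  have hlt3 := hs3.lt (by norm_num)
  obtain ⟨x, hxr, hxM⟩ : ∃ x : GL (Fin 4) F, orderOf x = r ∧ x ∈ X := by
    have := Fact.mk hr.prime
    obtain ⟨x, hx⟩ := exists_prime_orderOf_dvd_card' r hrX
    exact ⟨x, by rw [Subgroup.orderOf_coe]; exact hx, x.2⟩
  have hys : s ∣ Nat.card X → ∃ x : GL (Fin 4) F, orderOf x = s ∧ x ∈ X := by
    intro h
    have := Fact.mk hs.prime
    obtain ⟨x, hx⟩ := exists_prime_orderOf_dvd_card' s h
    exact ⟨x, by rw [Subgroup.orderOf_coe]; exact hx, x.2⟩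
  have h2F : ¬ 2 ∣ Nat.card F - 1 := by rw [hNF]; exact ndvd_pred hf1
  have hrF : ¬ r ∣ Nat.card F - 1 := by
    intro h
    have h1 := (hr4.dvd_iff Nat.card_pos 1).1 (by rwa [pow_one])
    have := Nat.le_of_dvd (by norm_num) h1
    omega
  rcases S5781.result M hM with ⟨W, hW0, hW1, e⟩ | ⟨-, D, hD, e⟩ | ⟨-, D, hD, e⟩ | ⟨K, hK, e⟩ |
    ⟨F₀, ρ, B, hρ, hc, e⟩ | ⟨p', R, hp', hFp, h4', hR, e⟩ | ⟨hodd, -⟩ | ⟨g, hg, e⟩ | ⟨σ, g, hg, e⟩ | hres
  · exfalso
    rw [e] at hXM
    rcases le_finrank_of_mem_stabilizer hr4' hxr (mem_of_subspaceStabilizer (hXM hxM).1) with h | h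
    · apply hW1
      apply Submodule.eq_top_of_finrank_eq
      have h1 := Submodule.finrank_le W
      rw [Module.finrank_fintype_fun_eq_card, Fintype.card_fin] at h1 ⊢
      omega
    · apply hW0
      rw [Fintype.card_fin] at h
      exact Submodule.finrank_eq_zero.1 (by omega)
  · exfalso
    rw [e] at hXM
    have := decomp_le hD (hXM.trans inf_le_left) hr4 (by norm_num) hrX
    omega
  · exfalso
    rw [e] at hXM
    have := decomp_le hD (hXM.trans inf_le_left) hr4 (by norm_num) hrX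
    omega
  · rw [e] at hXM
    refine ⟨fun hsd => ?_, Or.inl (ext_two hf1 hNF (Fintype.card_fin 4) hK (hXM.trans inf_le_left))⟩
    rcases ext_cases Nat.prime_two hK (hXM.trans inf_le_left) (by rw [Fintype.card_fin]; norm_num) hs3
      (by rw [Fintype.card_fin]; norm_num) hsd with h | h
    · omega
    · revert h; decide
  · exfalso
    rw [e] at hXM
    exact kill_subfield (hXM.trans inf_le_left) hρ (by rw [Nat.card_eq_fintype_card]; exact hc) Nat.prime_two hNF hrp
      (by rw [Fintype.card_fin]; norm_num) (by norm_num) hrX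
  · exfalso
    have h1 : Nat.Prime (2 ^ f) := by rw [← hF, hFp]; exact hp'
    exact Nat.Prime.not_prime_pow (by omega) h1
  · exfalso
    rw [hF] at hodd
    exact (Nat.not_odd_iff_even.2 (Even.pow_of_ne_zero (by decide) (by omega))) hodd
  · rw [e] at hXM
    refine ⟨fun hsd => ?_, ?_⟩
    · obtain ⟨y, hyr, hyM⟩ := hys hsd
      have := even_of_bilinear hs3' (by norm_num) (by rw [Fintype.card_fin]; norm_num) hyr hg.bilinear
        hg.nondegenerate (hXM hyM).1
      revert this; decide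
    · obtain ⟨θ, hθ⟩ := exists_sp hg
      have hne' := exists_ne_zero hg.nondegenerate
      have h1 := factorization_inf (H := X) (K := isoF g) Nat.prime_two
        (fun y hy k hk => mem_isoF_of_sim hne' Nat.prime_two h2F (hXM hy).1 hk)
      have h2 := pow_dvd_inf (H := X) (K := isoF g) hr.prime (n := 1)
        (fun y hy k hk => mem_isoF_of_sim hne' hr.prime hrF (hXM hy).1 hk) (by rwa [pow_one])
      rw [pow_one] at h2
      rw [h1]
      set N : Subgroup (GL (Fin 2 ⊕ Fin 2) F) := (X ⊓ isoF g).map θ.toMonoidHom with hN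
      have hcN : Nat.card N = Nat.card ↥(X ⊓ isoF g) := Subgroup.card_map_of_injective θ.injective
      have hNle : N ≤ spGL 2 F := by
        rintro _ ⟨y, hy, rfl⟩
        exact (hθ y).1 hy.2
      rw [← hcN] at h2 ⊢
      exact sp_v2 h4 hf hF hr hNle h2
  · exfalso
    rw [e] at hXM
    obtain ⟨p₁, k, hp₁, hch, hc, hσ⟩ := exists_frobenius hg.ne_refl hg.involutive
    have := Fact.mk hp₁
    have hpp : 2 = p₁ := by
      have h2 : 2 ∣ (p₁ ^ k) ^ 2 := by
        rw [← hc, hF]; exact dvd_pow_self _ (by omega)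
      exact (Nat.prime_dvd_prime_iff_eq Nat.prime_two hp₁).1 (Nat.prime_two.dvd_of_dvd_pow (Nat.prime_two.dvd_of_dvd_pow h2))
    subst hpp
    have hfk : f = 2 * k := by
      have h1 : 2 ^ f = 2 ^ (2 * k) := by rw [← hF, hc, ← pow_mul, mul_comm]
      exact Nat.pow_right_injective le_rfl h1
    have hk : 1 ≤ k := by omega
    have hP8 : PP 2 (k * (2 * 4)) r := by
      have : f * 4 = k * (2 * 4) := by rw [hfk]; ring
      rw [← this]
      exact hrp
    have := odd_of_unitary hc (ppd_of_pp (hP8.of_pow hk) (by norm_num)) (by norm_num)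
      (by rw [Fintype.card_fin]; norm_num) hxr hσ hg (hXM hxM).1
    revert this; decide
  · exact (hRes M hM hres).elim

end

end Cfsg.Agent.H458.Rs
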