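import Cfsg.Agent.H458.Rs.O6pB
import Cfsg.Agent.H96.U4.Main
import Cfsg.Agent.S0302

/-!
# S3691, box O6p: `Ω₆⁺(q) ≅ SL₄(q)`, `q = 2 ^ f`, and the box up to S5782 (helper458)

* `omega_equiv` : the isomorphism
* `boxO6p_of_res` : the box, given the content of S5782
-/

set_option autoImplicit false

namespace Cfsg.Agent.H458.Rs

open Cfsg Cfsg.Geo Module QuadraticMap Cfsg.Agent.H955 Cfsg.Agent.LieClassical.OrthCore Cfsg.Agent.LieClassical.OrthTrans
open Cfsg.Agent.LieClassical.QuadForms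
open Cfsg.Agent.H884.OmegaGL (bundle nondeg_bundle)
open Cfsg.Agent.H659.Rs (Pm v2 BoxSp4 BoxO6p)
open Cfsg.Agent.H96.U4 (commutator_equiv polar_nondeg index_omega inv_mul_mem_omega index_le_two fact_mono)
open scoped Matrix MatrixGroups

section

variable {F : Type} [Field F]

theorem center_sl (h2 : (2 : F) = 0) : Subgroup.center (Matrix.SpecialLinearGroup (Fin 4) F) = ⊥ := by
  rw [eq_bot_iff]
  intro z hz
  rw [Matrix.SpecialLinearGroup.mem_center_iff] at hz
  obtain ⟨c, hc, hcz⟩ := hz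
  rw [Fintype.card_fin] at hc
  have h1 : (c - 1) ^ 4 = 0 := by
    linear_combination hc + (1 - 2 * c ^ 3 + 3 * c ^ 2 - 2 * c) * h2
  have h3 : c = 1 := sub_eq_zero.1 (pow_eq_zero_iff (by norm_num) |>.1 h1)
  rw [Subgroup.mem_bot]
  apply Subtype.ext
  rw [← hcz, h3, map_one, Matrix.SpecialLinearGroup.coe_one]

theorem sl_equiv (h2 : (2 : F) = 0) :
    Nonempty (Matrix.ProjectiveSpecialLinearGroup (Fin 4) F ≃* specialLinear (Fin 4) F) := by
  have e1 : Matrix.ProjectiveSpecialLinearGroup (Fin 4) F ≃* Matrix.SpecialLinearGroup (Fin 4) F :=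
    (QuotientGroup.quotientMulEquivOfEq (center_sl h2)).trans QuotientGroup.quotientBot
  have hinj : Function.Injective (Matrix.SpecialLinearGroup.toGL (n := Fin 4) (R := F)) := by
    intro a b h
    apply Subtype.ext
    exact congrArg (fun g : GL (Fin 4) F => (g : Matrix (Fin 4) (Fin 4) F)) h
  exact ⟨e1.trans ((MonoidHom.ofInjective hinj).trans (MulEquiv.subgroupCongr H905.range_toGL))⟩

variable [Fintype F] {f : ℕ}

theorem two_eq_zero (hf : 1 ≤ f) (hF : Fintype.card F = 2 ^ f) : (2 : F) = 0 := by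
  have hF0 : ((Fintype.card F : ℕ) : F) = 0 := FiniteField.cast_card_eq_zero F
  rw [hF, Nat.cast_pow] at hF0
  exact_mod_cast (pow_eq_zero_iff (by omega)).1 hF0

/-- **the isomorphism** -/
theorem omega_equiv (hf : 1 ≤ f) (hF : Fintype.card F = 2 ^ f) {Q : (Fin 3 ⊕ Fin 3 → F) → F}
    (hQ : IsNondegenerateQuadraticForm Q) (hp : IsPlusTypeOn Q ⊤) :
    Nonempty (omegaGL Q ≃* specialLinear (Fin 4) F) := by
  have h2 := two_eq_zero hf hF
  have hplus : IsPlus (bundle Q hQ) := by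
    obtain ⟨U, -, hU, hd⟩ := hp
    exact ⟨U, hU, by rw [finrank_top] at hd; exact hd⟩
  obtain ⟨e, he⟩ := exists_plus_equiv 3 (bundle Q hQ) (nondeg_bundle Q hQ)
    (by rw [finrank_fintype_fun_eq_card]; rfl) hplus
  obtain ⟨e1⟩ := LieClassical.OrthFourCommon.exists_isometryGroup_equiv e Q (quadFormPlus 3 F) (fun v => he v)
  obtain ⟨e2⟩ := LieClassical.OrthFourCommon.exists_isometryGroup_equiv (LinearEquiv.refl F _) (quadFormPlus 3 F)
    (quadFormPlus 3 F) (fun _ => rfl)
  obtain ⟨e3⟩ := commutator_equiv (e1.trans e2.symm)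
  have hc : Subgroup.center (Omega F (quadFormPlus 3 F)) = ⊥ := by
    have h1 : Subgroup.center (Omega F ⇑(plusForm 3 F)) = ⊥ := by
      refine LieClassical.OrthCenter.center_omega_eq_bot_char_two h2 (polar_nondeg (nondeg_plus 3)) (by simp) ?_
      refine ⟨Pi.single (Sum.inl 0) 1, ?_, ?_⟩
      · intro h0
        have := congrFun h0 (Sum.inl 0)
        simp at this
      · rw [coe_plusForm]
        simp [quadFormPlus]
    rwa [coe_plusForm] at h1
  obtain ⟨e5⟩ := Cfsg.Agent.S0302.result (F := F)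
  obtain ⟨e6⟩ := sl_equiv h2
  have e4 : POmega F (quadFormPlus 3 F) ≃* Omega F (quadFormPlus 3 F) :=
    (QuotientGroup.quotientMulEquivOfEq hc).trans QuotientGroup.quotientBot
  have e7 : Omega F Q ≃* omegaGL Q := Subgroup.equivMapOfInjective _ _ (Subgroup.subtype_injective _)
  exact ⟨e7.symm.trans (e3.trans (e4.symm.trans (e5.trans e6)))⟩

/-- the subgroup of `SL_4(q)` -/
theorem exists_sub (hf : 1 ≤ f) (hF : Fintype.card F = 2 ^ f) {Q : (Fin 3 ⊕ Fin 3 → F) → F}
    (hQ : IsNondegenerateQuadraticForm Q) (hp : IsPlusTypeOn Q ⊤) {R : Subgroup (GL (Fin 3 ⊕ Fin 3) F)}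
    (hR : R ≤ Cfsg.isometryGroup F Q) : ∃ X : Subgroup (GL (Fin 4) F), X ≤ specialLinear (Fin 4) F ∧
      (X = specialLinear (Fin 4) F → omegaGL Q ≤ R) ∧ Nat.card X ∣ Nat.card R ∧ Nat.card R ∣ 2 * Nat.card X := by
  classical
  have hfin1 : Finite (GL (Fin 3 ⊕ Fin 3) F) := inferInstance
  have hfin2 : Finite (GL (Fin 4) F) := inferInstance
  obtain ⟨E⟩ := omega_equiv hf hF hQ hp
  set Y := R.subgroupOf (omegaGL Q) with hY
  set X := (Y.map E.toMonoidHom).map (specialLinear (Fin 4) F).subtype with hX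
  have hXY : Nat.card X = Nat.card Y := by
    rw [hX, Subgroup.card_map_of_injective (Subgroup.subtype_injective _), Subgroup.card_map_of_injective E.injective]
  have hYR : Nat.card Y = Nat.card ((omegaGL Q).subgroupOf R) := by
    have h1 : Nat.card Y = Nat.card (R ⊓ omegaGL Q : Subgroup (GL (Fin 3 ⊕ Fin 3) F)) := by
      rw [← Subgroup.subgroupOf_map_subtype, Subgroup.card_map_of_injective (Subgroup.subtype_injective _)]
    have h2 : Nat.card ((omegaGL Q).subgroupOf R) = Nat.card (omegaGL Q ⊓ R : Subgroup (GL (Fin 3 ⊕ Fin 3) F)) := by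
      rw [← Subgroup.subgroupOf_map_subtype, Subgroup.card_map_of_injective (Subgroup.subtype_injective _)]
    rw [h1, h2, inf_comm]
  refine ⟨X, Subgroup.map_subtype_le _, ?_, ?_, ?_⟩
  · intro h
    have h1 : Nat.card Y = Nat.card (omegaGL Q) := by
      rw [← hXY, h]
      exact (Nat.card_congr E.toEquiv).symm
    have h2 : Y = ⊤ := Subgroup.eq_top_of_card_eq _ h1
    exact Subgroup.subgroupOf_eq_top.1 h2
  · rw [hXY, hYR]
    exact Subgroup.card_subgroup_dvd_card _
  · rw [hXY, hYR, ← Subgroup.index_mul_card ((omegaGL Q).subgroupOf R)]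
    exact Nat.mul_dvd_mul_right (index_le_two fun x hx y hy hx0 hy0 =>
      inv_mul_mem_omega hf hF hQ (hR hx) (hR hy) hx0 hy0) _

end

/-- **box O6p**, given the content of S5782 -/
theorem boxO6p_of_res (h4 : BoxSp4)
    (hRes : ∀ {F : Type} [Field F] [Fintype F] {f : ℕ}, 4 ≤ f → Fintype.card F = 2 ^ f → LinResNone F) : BoxO6p := by
  intro F _ _ f r s hf hF hr hs Q hQ hp R hR hrR
  classical
  have hf1 : 1 ≤ f := by omega
  have hfin1 : Finite (GL (Fin 3 ⊕ Fin 3) F) := inferInstance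
  have hfin2 : Finite (GL (Fin 4) F) := inferInstance
  obtain ⟨X, hX, hXR, hd1, hd2⟩ := exists_sub hf1 hF hQ hp hR
  have hX0 : Nat.card X ≠ 0 := Nat.card_pos.ne'
  have hR0 : Nat.card R ≠ 0 := Nat.card_pos.ne'
  have hv1 : (Nat.card X).factorization 2 ≤ v2 R := fact_mono hd1 hR0
  have hv2 : v2 R ≤ (Nat.card X).factorization 2 + 1 := by
    have h1 := fact_mono hd2 (mul_ne_zero (by norm_num) hX0)
    rw [Nat.factorization_mul (by norm_num) hX0, Finsupp.add_apply, Nat.Prime.factorization_self Nat.prime_two] at h1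
    change (Nat.card R).factorization 2 ≤ _
    omega
  have hdvd : ∀ {n t : ℕ}, n ≠ 0 → Pm n t → t ∣ Nat.card R → t ∣ Nat.card X := by
    intro n t hn ht h
    exact (ht.prime.dvd_mul.1 (h.trans hd2)).resolve_left (H96.U4.Pm.not_dvd_two ht hn)
  rcases core h4 hf hF (hRes hf hF) hr hs hX (hdvd (by omega) hr hrR) with h | ⟨h1, h2⟩
  · exact Or.inl (hXR h)
  · refine Or.inr ⟨fun h => h1 (hdvd (by omega) hs h), ?_⟩
    rcases h2 with h2 | h2
    · exact Or.inl (by omega)
    · exact Or.inr (by omega)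

end Cfsg.Agent.H458.Rs
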